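import Cfsg.Agent.Lib.ClassicalForms.Ortho.Index
import Cfsg.Prelude.Def_LieTypeDatum

/-!
Similitudes of a quadratic form acting on `Cfsg.POmega`: the homomorphism to the automorphism
group, its kernel (the scalars) and the named image subgroups of the automorphism group.
-/

set_option autoImplicit false

namespace CfsgLib.ClassicalForms

open QuadraticMap Module
open scoped commutatorElement

section Centralizer

variable {F V : Type*} [Field F] [AddCommGroup V] [Module F V] {Q : QuadraticForm F V}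
  [Finite F] [FiniteDimensional F V]

/-- A linear map fixing every singular line is a scalar. -/
theorem linear_eq_smul_of_fix_lines (hQ : Nondeg Q) (hn : 5 ≤ finrank F V) (g : V →ₗ[F] V)
    (hg : ∀ u : V, Q u = 0 → u ≠ 0 → ∃ c : F, g u = c • u) :
    ∃ c : F, ∀ v, g v = c • v := by
  have key : ∀ u w : V, Q u = 0 → Q w = 0 → u ≠ 0 → w ≠ 0 → polar Q u w = 0 →
      (∀ d : F, w ≠ d • u) → ∀ c c' : F, g u = c • u →
      g w = c' • w → c = c' := by
    intro u w hu hw hu0 hw0 huw hind c c' hc hc'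
    have hsum : u + w ≠ 0 := fun h => hind (-1) (by rw [neg_one_smul]; exact eq_neg_of_add_eq_zero_right h)
    obtain ⟨d, hd⟩ := hg (u + w) (by simp [QuadraticMap.map_add ⇑Q, hu, hw, huw]) hsum
    rw [map_add, hc, hc'] at hd
    have h1 : (c' - d) • w = (d - c) • u := by
      linear_combination (norm := module) hd
    by_cases hcd : c' - d = 0
    · rw [hcd, zero_smul, eq_comm, smul_eq_zero] at h1
      have := h1.resolve_right hu0
      rw [sub_eq_zero] at hcd this
      rw [hcd, ← this]
    · exact absurd (by rw [← smul_smul, ← h1, smul_smul, inv_mul_cancel₀ hcd, one_smul])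
        (hind ((c' - d)⁻¹ * (d - c)))
  obtain ⟨e, f, he, hf, hef⟩ := exists_hypPair hQ (by omega)
  have he0 : e ≠ 0 := IsHypPair.fst_ne_zero (Q := Q) (p := (e, f)) ⟨he, hf, hef⟩
  obtain ⟨c, hc⟩ := hg e he he0
  have hall : ∀ w : V, Q w = 0 → g w = c • w := by
    intro w hw
    by_cases hw0 : w = 0
    · simp [hw0]
    obtain ⟨c', hc'⟩ := hg w hw hw0
    by_cases hind : ∀ d : F, w ≠ d • e
    · by_cases hew : polar Q e w = 0
      · rw [key e w he hw he0 hw0 hew hind c c' hc hc', hc']
      · obtain ⟨x, hx0, hQx, hx⟩ := exists_singular_ker Q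
          ![QuadraticMap.polarBilin Q e, QuadraticMap.polarBilin Q w] (by omega)
        have hex : polar Q e x = 0 := by simpa using hx 0
        have hwx : polar Q w x = 0 := by simpa using hx 1
        obtain ⟨d, hd⟩ := hg x hQx hx0
        have h1 := key e x he hQx he0 hx0 hex (fun t ht => by
          rw [ht, polar_smul_right, polar_comm Q w e, smul_eq_mul] at hwx
          rcases mul_eq_zero.1 hwx with h | h
          · exact hx0 (by rw [ht, h, zero_smul])
          · exact hew h) c d hc hd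
        have h2 := key w x hw hQx hw0 hx0 hwx (fun t ht => by
          rw [ht, polar_smul_right, smul_eq_mul] at hex
          rcases mul_eq_zero.1 hex with h | h
          · exact hx0 (by rw [ht, h, zero_smul])
          · exact hew h) c' d hc' hd
        rw [hc', h2, ← h1]
    · simp only [not_forall, not_not] at hind
      obtain ⟨d, rfl⟩ := hind
      rw [map_smul, hc, smul_smul, smul_smul, mul_comm]
  refine ⟨c, fun v => ?_⟩
  · by_cases hv : v = 0
    · simp [hv]
    obtain ⟨u, -, hQu, huv⟩ :=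
      (Sec.top Q).exists_singular_polar_one hQ (by omega) (Sec.mem_top v) hv
    have hs : Q (v - Q v • u) = 0 := by
      simp [map_sub_eq, QuadraticMap.map_smul, hQu, polar_smul_right, polar_comm Q v u, huv]
    calc g v = g ((v - Q v • u) + Q v • u) := by rw [sub_add_cancel]
      _ = c • (v - Q v • u) + Q v • (c • u) := by rw [map_add, map_smul, hall _ hs, hall _ hQu]
      _ = c • v := by module

/-- A linear map commuting with every Siegel transformation is a scalar. -/
theorem linear_eq_smul_of_centralizes (hQ : Nondeg Q) (hn : 5 ≤ finrank F V) (g : V →ₗ[F] V)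
    (hg : ∀ s ∈ siegelGroup Q, ∀ v, g ((s : V ≃ₗ[F] V) v) = (s : V ≃ₗ[F] V) (g v)) :
    ∃ c : F, ∀ v, g v = c • v := by
  refine linear_eq_smul_of_fix_lines hQ hn g fun u hu hu0 => ?_
  obtain ⟨z, hz, hp⟩ := (Sec.top Q).exists_partner hQ (Sec.mem_top u) hu hu0
  obtain ⟨-, hQz, huz⟩ := hp
  have hzu : polar Q z u = 1 := by rw [polar_comm]; exact huz
  set x := g u with hx
  have hfix : ∀ w, ∀ hw : polar Q u w = 0,
      polar Q x u • w - (polar Q x w + Q w * polar Q x u) • u = 0 := by
    intro w hw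
    have h1 := hg _ (siegel_mem_siegelGroup hu hw) u
    rw [← hx, show (siegel Q u w hu hw : V ≃ₗ[F] V) u = u by
      simp [siegel_apply, polar_self_mul, hu, hw], ← hx, siegel_apply] at h1
    linear_combination (norm := module) -h1
  obtain ⟨w₀, hw0, hw₀⟩ := exists_ne_zero_ker
    ![QuadraticMap.polarBilin Q u, QuadraticMap.polarBilin Q z] (by omega)
  have hu_w0 : polar Q u w₀ = 0 := by simpa using hw₀ 0
  have hz_w0 : polar Q z w₀ = 0 := by simpa using hw₀ 1
  have hα : polar Q x u = 0 := by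
    by_contra hne
    have h1 := hfix w₀ hu_w0
    have h2 := congrArg (polar Q z) h1
    simp only [polar_sub_right, polar_smul_right, polar_zero_right, smul_eq_mul, hz_w0, hzu,
      mul_zero, zero_sub, mul_one, neg_eq_zero] at h2
    rw [h2, zero_smul, sub_zero, smul_eq_zero] at h1
    exact hw0 (h1.resolve_left hne)
  have hβ : ∀ w, polar Q u w = 0 → polar Q x w = 0 := fun w hw => by
    have h1 := hfix w hw
    rw [hα, zero_smul, zero_sub, mul_zero, add_zero, neg_eq_zero, smul_eq_zero] at h1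
    exact h1.resolve_right hu0
  refine ⟨polar Q x z, sub_eq_zero.1 (hQ _ fun y => ?_)⟩
  have h := hβ (y - polar Q u y • z) (by simp [polar_sub_right, polar_smul_right, huz])
  rw [polar_sub_right, polar_smul_right, smul_eq_mul] at h
  rw [polar_sub_left, polar_smul_left, smul_eq_mul]
  linear_combination h


end Centralizer

section Sim

variable {F : Type*} [Field F] {ι : Type} [Fintype ι] [DecidableEq ι] {f : (ι → F) → F}

/-- The similitude group of `f`. -/
abbrev simGroup (f : (ι → F) → F) : Subgroup (GL ι F) := Cfsg.Geo.quadSimilarityGroup (F := F) f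

lemma isometryGroup_le_simGroup : Cfsg.isometryGroup F f ≤ simGroup f := fun g hg =>
  ⟨1, fun v => by simpa using hg v v⟩

lemma conj_mem_isometryGroup {g x : GL ι F} (hg : g ∈ simGroup f) (hx : x ∈ Cfsg.isometryGroup F f) :
    g * x * g⁻¹ ∈ Cfsg.isometryGroup F f := by
  obtain ⟨c, hc⟩ := hg
  intro u v
  show f (((g * x * g⁻¹ : GL ι F) : Matrix ι ι F).mulVec u) = f u
  rw [Units.val_mul, Units.val_mul, ← Matrix.mulVec_mulVec, ← Matrix.mulVec_mulVec, hc]
  have h := hx (((g⁻¹ : GL ι F) : Matrix ι ι F).mulVec u) v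
  change f ((x : Matrix ι ι F).mulVec (((g⁻¹ : GL ι F) : Matrix ι ι F).mulVec u)) = f _ at h
  rw [h, ← hc, Matrix.mulVec_mulVec, ← Units.val_mul, mul_inv_cancel, Units.val_one,
    Matrix.one_mulVec]

/-- Conjugation of the isometry group by a similitude. -/
def conjIso (g : simGroup f) : Cfsg.isometryGroup F f ≃* Cfsg.isometryGroup F f where
  toFun x := ⟨g.1 * x.1 * g.1⁻¹, conj_mem_isometryGroup g.2 x.2⟩
  invFun x := ⟨g.1⁻¹ * x.1 * g.1⁻¹⁻¹, conj_mem_isometryGroup (inv_mem g.2) x.2⟩
  left_inv x := Subtype.ext (by group)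
  right_inv x := Subtype.ext (by group)
  map_mul' x y := Subtype.ext (by simp [mul_assoc])

lemma conjIso_apply (g : simGroup f) (x : Cfsg.isometryGroup F f) :
    (conjIso g x : GL ι F) = g.1 * x.1 * g.1⁻¹ := rfl

/-- The matrix of an element of `Ω(f)`. -/
def omegaVal (s : Cfsg.Omega F f) : GL ι F := ((s : Cfsg.isometryGroup F f) : GL ι F)

lemma omegaVal_injective : Function.Injective (omegaVal : Cfsg.Omega F f → GL ι F) :=
  fun _ _ h => Subtype.ext (Subtype.ext h)

/-- Conjugation of `Ω(f)` by a similitude. -/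
noncomputable def conjOmega (g : simGroup f) : Cfsg.Omega F f ≃* Cfsg.Omega F f :=
  commutatorCongr (conjIso g)

lemma omegaVal_conjOmega (g : simGroup f) (s : Cfsg.Omega F f) :
    omegaVal (conjOmega g s) = g.1 * omegaVal s * g.1⁻¹ := rfl

/-- The automorphism of `PΩ(f)` induced by a similitude. -/
noncomputable def simAut : simGroup f →* MulAut (Cfsg.POmega F f) :=
  MonoidHom.mk' (fun g => quotCenterCongr (conjOmega g)) fun g g' => by
    refine MulEquiv.ext fun x => ?_
    obtain ⟨s, rfl⟩ := QuotientGroup.mk_surjective x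
    show QuotientGroup.mk (conjOmega (g * g') s) = QuotientGroup.mk (conjOmega g (conjOmega g' s))
    refine congrArg _ (omegaVal_injective ?_)
    simp only [omegaVal_conjOmega, Subgroup.coe_mul]
    group

lemma simAut_mk (g : simGroup f) (s : Cfsg.Omega F f) :
    simAut g (QuotientGroup.mk s) = QuotientGroup.mk (conjOmega g s) := rfl

lemma isInduced_iff (g : simGroup f) (β : MulAut (Cfsg.POmega F f)) :
    Cfsg.IsInducedBySemilinearPOmega f g.1 (RingEquiv.refl F) β ↔ β = simAut g := by
  constructor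
  · intro h
    refine MulEquiv.ext fun x => ?_
    obtain ⟨s, rfl⟩ := QuotientGroup.mk_surjective x
    rw [simAut_mk]
    exact h s _ (by
      show (omegaVal (conjOmega g s) : Matrix ι ι F) = _
      rw [omegaVal_conjOmega]
      simp [omegaVal])
  · rintro rfl s s' hs
    rw [simAut_mk]
    refine congrArg _ (omegaVal_injective (Units.ext ?_))
    rw [omegaVal_conjOmega]
    refine Eq.trans ?_ hs.symm
    simp [omegaVal]

lemma autSubgroupOf_eq (H : Subgroup (simGroup f)) (P : GL ι F → Prop)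
    (hP : ∀ g : GL ι F, (∃ hg : g ∈ simGroup f, (⟨g, hg⟩ : simGroup f) ∈ H) ↔ P g) :
    Cfsg.autSubgroupOf (fun β => ∃ g : GL ι F, P g ∧
      Cfsg.IsInducedBySemilinearPOmega f g (RingEquiv.refl F) β) = H.map simAut := by
  rw [Cfsg.autSubgroupOf]
  refine le_antisymm ((Subgroup.closure_le _).2 ?_) ?_
  · rintro β ⟨g, hg, hβ⟩
    obtain ⟨hg', hH⟩ := (hP g).2 hg
    exact ⟨_, hH, ((isInduced_iff ⟨g, hg'⟩ β).1 hβ).symm⟩
  · rintro β ⟨g, hg, rfl⟩
    exact Subgroup.subset_closure ⟨g.1, (hP g.1).1 ⟨g.2, hg⟩, (isInduced_iff g _).2 rfl⟩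

lemma pgoAut_eq : Cfsg.pgoAut F f = (⊤ : Subgroup (simGroup f)).map simAut :=
  autSubgroupOf_eq ⊤ _ fun _ => ⟨fun ⟨h, _⟩ => h, fun h => ⟨h, trivial⟩⟩

lemma poAut_eq :
    Cfsg.poAut F f = ((Cfsg.isometryGroup F f).subgroupOf (simGroup f)).map simAut :=
  autSubgroupOf_eq _ _ fun _ => ⟨fun ⟨_, h⟩ => h, fun h => ⟨isometryGroup_le_simGroup h, h⟩⟩

lemma psoAut_eq :
    Cfsg.psoAut F f = ((Cfsg.specialIsometryGL F f).subgroupOf (simGroup f)).map simAut :=
  autSubgroupOf_eq _ _ fun _ =>
    ⟨fun ⟨_, h⟩ => h, fun h => ⟨isometryGroup_le_simGroup h.1, h⟩⟩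

/-- `Ω(f)` inside the similitude group. -/
def omegaSim : Cfsg.Omega F f →* simGroup f :=
  (Subgroup.inclusion isometryGroup_le_simGroup).comp (Cfsg.Omega F f).subtype

lemma simAut_omegaSim (s : Cfsg.Omega F f) :
    simAut (omegaSim s) = MulAut.conj (QuotientGroup.mk s : Cfsg.POmega F f) := by
  refine MulEquiv.ext fun x => ?_
  obtain ⟨t, rfl⟩ := QuotientGroup.mk_surjective x
  rw [simAut_mk, MulAut.conj_apply]
  show _ = (QuotientGroup.mk (s * t * s⁻¹) : Cfsg.POmega F f)
  exact congrArg _ (omegaVal_injective rfl)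

lemma inn_eq : Cfsg.Inn (Cfsg.POmega F f) = (omegaSim.range).map simAut := by
  ext β
  constructor
  · rintro ⟨x, rfl⟩
    obtain ⟨s, rfl⟩ := QuotientGroup.mk_surjective x
    exact ⟨_, ⟨s, rfl⟩, simAut_omegaSim s⟩
  · rintro ⟨_, ⟨s, rfl⟩, rfl⟩
    exact ⟨_, (simAut_omegaSim s).symm⟩

theorem mem_scalars_of_simAut_eq_one [Finite F] (Q : QuadraticForm F (ι → F)) (h : ∀ v, Q v = f v)
    (hQ : Nondeg Q) (hn : 7 ≤ Fintype.card ι) (hgen : IsGen Q) {g : simGroup f}
    (hg : simAut g = 1) : (g : GL ι F) ∈ Cfsg.Geo.scalars ι F := by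
  have hn' : 7 ≤ finrank F (ι → F) := by simpa using hn
  have hc := commutator_eq_siegelGroup hQ (by omega) hgen
  set e := (commutatorCongr (isoMat Q h)).trans (MulEquiv.subgroupCongr hc)
  have hperf : commutator (Cfsg.Omega F f) = (⊤ : Subgroup (Cfsg.Omega F f)) := by
    have h1 : commutator (siegelGroup Q) = ⊤ := by
      apply Subgroup.map_injective (siegelGroup Q).subtype_injective
      rw [commutator_def, Subgroup.map_commutator, ← MonoidHom.range_eq_map, Subgroup.range_subtype]
      exact le_antisymm (Subgroup.commutator_le.2 fun x hx y hy => by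
        rw [commutatorElement_def]
        exact mul_mem (mul_mem (mul_mem hx hy) (inv_mem hx)) (inv_mem hy))
        (siegelGroup_le_commutator_self hQ hn')
    apply Subgroup.map_injective (f := e.toMonoidHom) e.injective
    show Subgroup.map e.toMonoidHom ⁅(⊤ : Subgroup (Cfsg.Omega F f)), (⊤ : Subgroup (Cfsg.Omega F f))⁆ = _
    rw [Subgroup.map_commutator, Subgroup.map_top_of_surjective e.toMonoidHom e.surjective]
    exact h1
  have hz : ∀ s : Cfsg.Omega F f, s⁻¹ * conjOmega g s ∈ Subgroup.center (Cfsg.Omega F f) := by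
    intro s
    have h1 := congrArg (fun φ : MulAut (Cfsg.POmega F f) => φ (QuotientGroup.mk s)) hg
    simp only [simAut_mk, MulAut.one_apply] at h1
    exact QuotientGroup.eq.1 h1.symm
  let z : Cfsg.Omega F f →* Subgroup.center (Cfsg.Omega F f) :=
    MonoidHom.mk' (fun s => ⟨s⁻¹ * conjOmega g s, hz s⟩) fun s t => Subtype.ext (by
      show (s * t)⁻¹ * conjOmega g (s * t) = s⁻¹ * conjOmega g s * (t⁻¹ * conjOmega g t)
      rw [map_mul, mul_inv_rev]
      calc t⁻¹ * s⁻¹ * (conjOmega g s * conjOmega g t)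
          = t⁻¹ * (s⁻¹ * conjOmega g s) * conjOmega g t := by simp only [mul_assoc]
        _ = s⁻¹ * conjOmega g s * t⁻¹ * conjOmega g t := by
            rw [Subgroup.mem_center_iff.1 (hz s) t⁻¹]
        _ = _ := by simp only [mul_assoc])
  have hker : z.ker = ⊤ := top_le_iff.1 (hperf.ge.trans ((Subgroup.commutator_le (H₁ := ⊤) (H₂ := ⊤)).2 fun a _ b _ => by
    rw [MonoidHom.mem_ker, map_commutatorElement, commutatorElement_eq_one_iff_mul_comm]
    exact Subtype.ext (Subgroup.mem_center_iff.1 (z b).2 (z a).1)))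
  obtain ⟨c, hc'⟩ := linear_eq_smul_of_centralizes hQ (by omega)
    (glEquiv g.1 : (ι → F) ≃ₗ[F] (ι → F)).toLinearMap fun s hs v => by
      obtain ⟨t, ht⟩ := e.surjective ⟨s, hs⟩
      have h1 : conjOmega g t = t := by
        have := congrArg Subtype.val (MonoidHom.mem_ker.1 (hker.ge (Subgroup.mem_top t)))
        exact (inv_mul_eq_one.1 this).symm
      have h2 := congrArg omegaVal h1
      rw [omegaVal_conjOmega, mul_inv_eq_iff_eq_mul] at h2
      have h3 : s = isoMat Q h (t : Cfsg.isometryGroup F f) := (congrArg Subtype.val ht).symm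
      subst h3
      simp only [LinearEquiv.coe_toLinearMap, isoMat_apply, glEquiv_apply, Matrix.mulVec_mulVec]
      rw [← Units.val_mul, ← Units.val_mul]
      exact congrArg (fun z : GL ι F => (z : Matrix ι ι F).mulVec v) h2
  have hm : ((g : GL ι F) : Matrix ι ι F) = c • (1 : Matrix ι ι F) := by
    apply Matrix.ext_of_mulVec_single
    intro i
    have := hc' (Pi.single i 1)
    simp only [LinearEquiv.coe_toLinearMap, glEquiv_apply] at this
    rw [this, Matrix.smul_mulVec, Matrix.one_mulVec]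
  have : Nonempty ι := Fintype.card_pos_iff.1 (by omega)
  have hc0 : c ≠ 0 := by
    rintro rfl
    have h1 := (g : GL ι F).mul_inv
    rw [hm, zero_smul, zero_mul] at h1
    exact zero_ne_one h1
  exact (Cfsg.Geo.mem_scalars_iff _).2 ⟨Units.mk0 c hc0, hm⟩

lemma simAut_eq_one_of_scalar {g : simGroup f} (hg : (g : GL ι F) ∈ Cfsg.Geo.scalars ι F) :
    simAut g = 1 := by
  obtain ⟨c, hc⟩ := (Cfsg.Geo.mem_scalars_iff _).1 hg
  refine MulEquiv.ext fun x => ?_
  obtain ⟨s, rfl⟩ := QuotientGroup.mk_surjective x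
  rw [simAut_mk, MulAut.one_apply]
  refine congrArg _ (omegaVal_injective ?_)
  rw [omegaVal_conjOmega, mul_inv_eq_iff_eq_mul]
  exact Units.ext (by simp [hc])

lemma scalar_mem_simGroup (Q : QuadraticForm F (ι → F)) (h : ∀ v, Q v = f v) {g : GL ι F}
    (hg : g ∈ Cfsg.Geo.scalars ι F) : g ∈ simGroup f := by
  obtain ⟨c, hc⟩ := (Cfsg.Geo.mem_scalars_iff _).1 hg
  refine ⟨c * c, fun v => ?_⟩
  rw [hc, Matrix.smul_mulVec, Matrix.one_mulVec, ← h, ← h, QuadraticMap.map_smul, smul_eq_mul,
    Units.val_mul]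

theorem ker_simAut [Finite F] (Q : QuadraticForm F (ι → F)) (h : ∀ v, Q v = f v) (hQ : Nondeg Q)
    (hn : 7 ≤ Fintype.card ι) (hgen : IsGen Q) :
    (simAut (f := f)).ker = (Cfsg.Geo.scalars ι F).subgroupOf (simGroup f) :=
  le_antisymm (fun _ hg => mem_scalars_of_simAut_eq_one Q h hQ hn hgen hg)
    fun _ hg => simAut_eq_one_of_scalar hg

end Sim

end CfsgLib.ClassicalForms
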